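/-
An element with a small fixed point subgroup (helper8).

* `exists_small_fixed` : if a `q`-group acts on an abelian `q'`-group `W` without a common
  non-trivial fixed point, some element fixes at most `|W| ^ (1 / q)` points.
-/
import Mathlib.GroupTheory.PGroup
import Mathlib.GroupTheory.Index

set_option autoImplicit false

namespace Cfsg.Agent.PrimChar

variable {Q : Type*} [Group Q]

/-- The number of fixed points of `a`. -/
noncomputable def fixCard {W : Type*} [CommGroup W] (φ : Q →* MulAut W) (a : Q) : ℕ :=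
  Nat.card {w : W // φ a w = w}

theorem fixCard_pos {W : Type*} [CommGroup W] [Finite W] (φ : Q →* MulAut W) (a : Q) :
    0 < fixCard φ a :=
  haveI : Nonempty {w : W // φ a w = w} := ⟨⟨1, map_one _⟩⟩
  Nat.card_pos

/-- Restriction of an action to an invariant subgroup. -/
def resAct {W : Type*} [CommGroup W] (φ : Q →* MulAut W) (U : Subgroup W)
    (h : ∀ a, ∀ u ∈ U, φ a u ∈ U) : Q →* MulAut U where
  toFun a :=
    { toFun := fun u => ⟨φ a (u : W), h a u u.2⟩
      invFun := fun u => ⟨φ a⁻¹ (u : W), h a⁻¹ u u.2⟩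
      left_inv := fun u => Subtype.ext (by
        show φ a⁻¹ (φ a (u : W)) = u
        rw [← MulAut.mul_apply, ← map_mul, inv_mul_cancel, map_one, MulAut.one_apply])
      right_inv := fun u => Subtype.ext (by
        show φ a (φ a⁻¹ (u : W)) = u
        rw [← MulAut.mul_apply, ← map_mul, mul_inv_cancel, map_one, MulAut.one_apply])
      map_mul' := fun u v => Subtype.ext (map_mul (φ a) (u : W) (v : W)) }
  map_one' := MulEquiv.ext fun u => Subtype.ext (by show φ 1 (u : W) = u; rw [map_one, MulAut.one_apply])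
  map_mul' a b := MulEquiv.ext fun u => Subtype.ext (by
    show φ (a * b) (u : W) = φ a (φ b (u : W)); rw [map_mul, MulAut.mul_apply])

theorem resAct_apply {W : Type*} [CommGroup W] (φ : Q →* MulAut W) (U : Subgroup W)
    (h : ∀ a, ∀ u ∈ U, φ a u ∈ U) (a : Q) (u : U) : (resAct φ U h a u : W) = φ a (u : W) := rfl

variable [Finite Q] {q : ℕ} [hq : Fact q.Prime]

theorem eq_one_of_pow_prime {W : Type*} [Group W] [Finite W] (hc : (Nat.card W).Coprime q) {w : W}
    (h : w ^ q = 1) : w = 1 :=
  orderOf_eq_one_iff.1 (Nat.dvd_one.1 (hc ▸ Nat.dvd_gcd (orderOf_dvd_natCard w)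
    (orderOf_dvd_of_pow_eq_one h)))

/-- If `z` acts fixed point freely and centrally, the fixed point subgroups of `a * z ^ i` are
independent. -/
theorem prod_coset_le {W : Type*} [CommGroup W] [Finite W] (φ : Q →* MulAut W) (z : Q)
    (hzq : φ z ^ q = 1) (hzc : ∀ a, Commute (φ z) (φ a))
    (hfpf : ∀ w, φ z w = w → w = 1) (a : Q) :
    ∏ i : Fin q, fixCard φ (a * z ^ (i : ℕ)) ≤ Nat.card W := by
  classical
  have hmain : ∀ (s : Finset (Fin q)) (w : Fin q → W),
      (∀ i ∈ s, φ (a * z ^ (i : ℕ)) (w i) = w i) → ∏ i ∈ s, w i = 1 → ∀ i ∈ s, w i = 1 := by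
    intro s
    induction s using Finset.induction with
    | empty => intro w _ _ i hi; exact absurd hi (Finset.notMem_empty i)
    | insert j s hjs ih =>
      intro w hw hp
      let D : W → W := fun x => φ a x / (φ z ^ (q - (j : ℕ))) x
      have hDmul : ∀ x y, D (x * y) = D x * D y := fun x y => by
        simp only [D, map_mul]; exact mul_div_mul_comm _ _ _ _
      have hshift : ∀ i x, φ (a * z ^ (i : Fin q).1) x = x → φ a x = (φ z ^ (q - (i : ℕ))) x := by
        intro i x hx
        conv_rhs => rw [← hx]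
        rw [map_mul, map_pow, ← MulAut.mul_apply, ((hzc a).pow_left _).symm.eq, ← mul_assoc, ← pow_add,
          Nat.sub_add_cancel i.2.le, hzq, one_mul]
      have hDj : D (w j) = 1 :=
        div_eq_one.2 (hshift j _ (hw j (Finset.mem_insert_self j s)))
      have hDinv : ∀ i ∈ s, φ (a * z ^ (i : ℕ)) (D (w i)) = D (w i) := by
        intro i hi
        have hx := hw i (Finset.mem_insert_of_mem hi)
        have hcz : Commute (φ z) (φ (a * z ^ (i : ℕ))) := hzc _
        have hca : Commute (φ a) (φ (a * z ^ (i : ℕ))) := by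
          rw [map_mul, map_pow]
          exact (Commute.refl (φ a)).mul_right ((hzc a).symm.pow_right _)
        simp only [D, map_div, ← MulAut.mul_apply, ← hca.eq, ← (hcz.pow_left (q - (j : ℕ))).eq]
        simp only [MulAut.mul_apply, hx]
      have hp' : ∏ i ∈ s, D (w i) = 1 := by
        let Dh : W →* W :=
          { toFun := D
            map_one' := by simp [D]
            map_mul' := hDmul }
        have h1 := congrArg Dh hp
        rw [map_prod, map_one, Finset.prod_insert hjs] at h1
        have h2 : Dh (w j) = 1 := hDj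
        rwa [h2, one_mul] at h1
      have hall := ih (fun i => D (w i)) hDinv hp'
      have hs : ∀ i ∈ s, w i = 1 := by
        intro i hi
        have h1 := div_eq_one.1 (hall i hi)
        rw [hshift i _ (hw i (Finset.mem_insert_of_mem hi))] at h1
        by_contra hne
        have hij : (i : ℕ) ≠ j := fun h => hjs (Fin.ext h ▸ hi)
        have hk : ∃ k : ℕ, 0 < k ∧ k < q ∧ (φ z ^ k) (w i) = w i := by
          rcases Nat.lt_or_gt_of_ne hij with h | h
          · refine ⟨(j : ℕ) - i, by omega, by omega, (φ z ^ (q - (j : ℕ))).injective ?_⟩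
            rw [← MulAut.mul_apply, ← pow_add, ← h1]
            congr 2
            omega
          · refine ⟨(i : ℕ) - j, by omega, by omega, (φ z ^ (q - (i : ℕ))).injective ?_⟩
            rw [← MulAut.mul_apply, ← pow_add, h1]
            congr 2
            omega
        obtain ⟨k, hk0, hkq, hk⟩ := hk
        have hcop : Nat.gcd k q = 1 :=
          ((hq.out.coprime_iff_not_dvd).2 fun h => absurd (Nat.le_of_dvd hk0 h) (by omega)).symm
        let S : Subgroup (MulAut W) :=
          { carrier := {f | f (w i) = w i}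
            one_mem' := rfl
            mul_mem' := fun {f g} hf hg => by
              show f (g (w i)) = w i
              rw [hg, hf]
            inv_mem' := fun {f} hf => by
              refine f.injective ?_
              show f (f⁻¹ (w i)) = f (w i)
              rw [MulAut.apply_inv_self, hf] }
        have hSk : φ z ^ k ∈ S := hk
        have hSq : φ z ^ q ∈ S := hzq ▸ one_mem S
        have hS : φ z ∈ S := by
          have e := Nat.gcd_eq_gcd_ab k q
          rw [hcop] at e
          have : φ z = (φ z ^ k) ^ Nat.gcdA k q * (φ z ^ q) ^ Nat.gcdB k q := by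
            rw [← zpow_natCast (φ z) k, ← zpow_natCast (φ z) q, ← zpow_mul, ← zpow_mul, ← zpow_add, ← e,
              Nat.cast_one, zpow_one]
          rw [this]
          exact mul_mem (zpow_mem hSk _) (zpow_mem hSq _)
        exact hne (hfpf _ hS)
      intro i hi
      rcases Finset.mem_insert.1 hi with rfl | hi
      · rw [Finset.prod_insert hjs, Finset.prod_eq_one hs, mul_one] at hp
        exact hp
      · exact hs i hi
  simp only [fixCard]
  rw [← Nat.card_pi]
  refine Nat.card_le_card_of_injective (fun f => ∏ i, (f i : W)) fun f g hfg => ?_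
  funext i
  refine Subtype.ext (div_eq_one.1 (hmain Finset.univ (fun i => (f i : W) / (g i : W)) (fun i _ => ?_)
    ?_ i (Finset.mem_univ i)))
  · show φ _ ((f i : W) / (g i : W)) = _
    rw [map_div, (f i).2, (g i).2]
  · rw [Finset.prod_div_distrib]
    exact div_eq_one.2 hfg

/-- The product of the numbers of fixed points. -/
theorem prod_fixCard_le [Fintype Q] (hQ : IsPGroup q Q) :
    ∀ (n : ℕ) {W : Type*} [CommGroup W] [Finite W] (φ : Q →* MulAut W), Nat.card W = n →
      (Nat.card W).Coprime q → (∀ w : W, (∀ a, φ a w = w) → w = 1) →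
      ∏ a : Q, fixCard φ a ^ q ≤ Nat.card W ^ Nat.card Q := by
  intro n
  induction n using Nat.strong_induction_on with
  | _ n ih =>
  intro W _ _ φ hn hcop hfix
  classical
  by_cases htriv : ∀ a, φ a = 1
  · have hW : Nat.card W = 1 := Nat.card_eq_one_iff_unique.2
      ⟨⟨fun u v => (hfix u fun a => by rw [htriv a, MulAut.one_apply]).trans
        (hfix v fun a => by rw [htriv a, MulAut.one_apply]).symm⟩, ⟨1⟩⟩
    have h1 : ∀ a, fixCard φ a = 1 := fun a => by
      refine le_antisymm ?_ (fixCard_pos φ a)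
      exact le_of_le_of_eq (Nat.card_le_card_of_injective _ Subtype.val_injective) hW
    simp [h1, hW]
  push Not at htriv
  obtain ⟨a₀, ha₀⟩ := htriv
  haveI : Nontrivial φ.range :=
    ⟨⟨⟨φ a₀, a₀, rfl⟩, 1, fun h => ha₀ (congrArg Subtype.val h)⟩⟩
  have hR : IsPGroup q φ.range := hQ.of_surjective φ.rangeRestrict φ.rangeRestrict_surjective
  haveI := hR.center_nontrivial
  obtain ⟨m, hm, hcard⟩ := IsPGroup.iff_card.1 (hR.to_subgroup (Subgroup.center φ.range)) |>.elim
    fun m hm => (⟨m, Nat.pos_of_ne_zero fun h => by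
      rw [h, pow_zero] at hm
      exact absurd hm Finite.one_lt_card.ne', hm⟩ :
        ∃ m, 0 < m ∧ Nat.card (Subgroup.center φ.range) = q ^ m)
  obtain ⟨zc, hzc'⟩ := exists_prime_orderOf_dvd_card' q
    (show q ∣ Nat.card (Subgroup.center φ.range) from hcard ▸ dvd_pow_self q hm.ne')
  obtain ⟨z, hz⟩ := (zc : φ.range).2
  have hzne : φ z ≠ 1 := fun h => by
    have : zc = 1 := Subtype.ext (Subtype.ext (hz ▸ h))
    rw [this, orderOf_one] at hzc'
    exact hq.out.one_lt.ne hzc'
  have hzq : φ z ^ q = 1 := by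
    rw [hz]
    have := pow_orderOf_eq_one zc
    rw [hzc'] at this
    exact congrArg (fun x : Subgroup.center φ.range => ((x : φ.range) : MulAut W)) this
  have hzc : ∀ a, Commute (φ z) (φ a) := fun a => by
    rw [hz]
    exact (congrArg Subtype.val (Subgroup.mem_center_iff.1 zc.2 ⟨φ a, a, rfl⟩)).symm
  -- decomposition
  let f : W →* W :=
    { toFun := fun w => φ z w / w
      map_one' := by simp
      map_mul' := fun x y => by rw [map_mul]; exact mul_div_mul_comm _ _ _ _ }
  set K := f.ker
  set R := f.range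
  have hcomm : ∀ a w, φ a (φ z w) = φ z (φ a w) := fun a w => by
    rw [← MulAut.mul_apply, ← MulAut.mul_apply, (hzc a).eq]
  have hfa : ∀ a w, f (φ a w) = φ a (f w) := fun a w => by
    show φ z (φ a w) / φ a w = φ a (φ z w / w)
    rw [map_div, hcomm]
  have hKinv : ∀ a, ∀ u ∈ K, φ a u ∈ K := fun a u hu => by
    rw [MonoidHom.mem_ker, hfa, MonoidHom.mem_ker.1 hu, map_one]
  have hRinv : ∀ a, ∀ u ∈ R, φ a u ∈ R := by
    rintro a _ ⟨w, rfl⟩
    exact ⟨φ a w, hfa a w⟩
  have hKR : ∀ u ∈ K, u ∈ R → u = 1 := by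
    rintro _ hu ⟨w, rfl⟩
    have hfixu : φ z (f w) = f w := div_eq_one.1 (MonoidHom.mem_ker.1 hu)
    have hiter : ∀ j : ℕ, (φ z ^ j) w = w * f w ^ j := by
      intro j
      induction j with
      | zero => simp
      | succ j ihj =>
        rw [pow_succ', MulAut.mul_apply, ihj, map_mul, map_pow, hfixu, pow_succ']
        show φ z w * _ = w * (φ z w / w * _)
        rw [← mul_assoc, mul_div_cancel]
    have h1 := hiter q
    rw [hzq, MulAut.one_apply, left_eq_mul] at h1
    exact eq_one_of_pow_prime hcop h1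
  have hcardW : Nat.card K * Nat.card R = Nat.card W := by
    rw [mul_comm, show Nat.card R = Nat.card (W ⧸ K) from
      (Nat.card_congr (QuotientGroup.quotientKerEquivRange f).toEquiv).symm,
      ← Subgroup.card_eq_card_quotient_mul_card_subgroup]
  let μ : K × R → W := fun x => (x.1 : W) * x.2
  have hμ : Function.Bijective μ := by
    refine (Nat.bijective_iff_injective_and_card μ).2 ⟨?_, by rw [Nat.card_prod, hcardW]⟩
    rintro ⟨k, r⟩ ⟨k', r'⟩ h
    have h1 : (k : W) / k' = r' / r := div_eq_div_iff_mul_eq_mul.2 (by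
      simpa only [μ, mul_comm (r' : W) (k' : W)] using h)
    have h2 := hKR _ (div_mem k.2 k'.2) (h1 ▸ div_mem r'.2 r.2)
    have hk : (k : W) = k' := div_eq_one.1 h2
    have hr : (r : W) = r' := (div_eq_one.1 (h1 ▸ h2)).symm
    exact Prod.ext (Subtype.ext hk) (Subtype.ext hr)
  set φK := resAct φ K hKinv with hφK
  set φR := resAct φ R hRinv with hφR
  have hsplit : ∀ a, fixCard φ a ≤ fixCard φK a * fixCard φR a := by
    intro a
    rw [fixCard, fixCard, fixCard, ← Nat.card_prod]
    refine Nat.card_le_card_of_surjective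
      (fun x => ⟨μ ((x.1.1, x.2.1) : K × R), ?_⟩) fun w => ?_
    · show φ a ((x.1.1 : W) * x.2.1) = _
      rw [map_mul, ← resAct_apply φ K hKinv, ← resAct_apply φ R hRinv, ← hφK, ← hφR, x.1.2, x.2.2]
    · obtain ⟨⟨k, r⟩, hkr⟩ := hμ.2 (w : W)
      have h1 : μ (φK a k, φR a r) = μ (k, r) := by
        show φ a k * φ a r = _
        rw [← map_mul, show (k : W) * r = μ (k, r) from rfl, hkr, w.2]
      have h2 := hμ.1 h1
      exact ⟨(⟨k, congrArg Prod.fst h2⟩, ⟨r, congrArg Prod.snd h2⟩), Subtype.ext hkr⟩
  have hKlt : Nat.card K < n := by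
    rw [← hn]
    refine lt_of_le_of_ne (Nat.le_of_dvd Nat.card_pos K.card_subgroup_dvd_card) fun h => hzne ?_
    refine MulEquiv.ext fun w => div_eq_one.1 (MonoidHom.mem_ker.1
      (((Subgroup.card_eq_iff_eq_top K).1 h).ge (Subgroup.mem_top w)))
  have hKb := ih (Nat.card K) hKlt φK rfl (hcop.coprime_dvd_left K.card_subgroup_dvd_card)
    fun u hu => Subtype.ext (hfix u fun a => congrArg Subtype.val (hu a))
  have hRb : ∏ a : Q, fixCard φR a ^ q ≤ Nat.card R ^ Nat.card Q := by
    have hfpf : ∀ u : R, φR z u = u → u = 1 := fun u hu => Subtype.ext (hKR u (by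
      rw [MonoidHom.mem_ker]; exact div_eq_one.2 (congrArg Subtype.val hu)) u.2)
    have hz1 : φR z ^ q = 1 := by
      rw [← map_pow]
      refine MulEquiv.ext fun u => Subtype.ext ?_
      rw [resAct_apply, map_pow, hzq]
      rfl
    have hz2 : ∀ a, Commute (φR z) (φR a) := fun a =>
      MulEquiv.ext fun u => Subtype.ext (hcomm a u).symm
    calc ∏ a : Q, fixCard φR a ^ q
        = ∏ i : Fin q, ∏ a : Q, fixCard φR (a * z ^ (i : ℕ)) := by
          rw [Finset.prod_congr rfl fun (i : Fin q) _ =>
            Fintype.prod_equiv (Equiv.mulRight (z ^ (i : ℕ))) (fun a => fixCard φR (a * z ^ (i : ℕ)))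
              (fixCard φR) fun a => rfl,
            Finset.prod_const, Finset.card_univ, Fintype.card_fin, Finset.prod_pow]
      _ = ∏ a : Q, ∏ i : Fin q, fixCard φR (a * z ^ (i : ℕ)) := Finset.prod_comm
      _ ≤ ∏ _a : Q, Nat.card R :=
          Finset.prod_le_prod' fun a _ => prod_coset_le φR z hz1 hz2 hfpf a
      _ = Nat.card R ^ Nat.card Q := by
          rw [Finset.prod_const, Finset.card_univ, Nat.card_eq_fintype_card (α := Q)]
  calc ∏ a : Q, fixCard φ a ^ q
      ≤ ∏ a : Q, (fixCard φK a * fixCard φR a) ^ q :=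
        Finset.prod_le_prod' fun a _ => Nat.pow_le_pow_left (hsplit a) q
    _ = (∏ a : Q, fixCard φK a ^ q) * ∏ a : Q, fixCard φR a ^ q := by
        rw [← Finset.prod_mul_distrib]; exact Finset.prod_congr rfl fun a _ => mul_pow _ _ _
    _ ≤ Nat.card K ^ Nat.card Q * Nat.card R ^ Nat.card Q := Nat.mul_le_mul hKb hRb
    _ = Nat.card W ^ Nat.card Q := by rw [← mul_pow, hcardW]

/-- Some element fixes at most `|W| ^ (1 / q)` points. -/
theorem exists_small_fixed (hQ : IsPGroup q Q) {W : Type*} [CommGroup W] [Finite W]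
    (φ : Q →* MulAut W) (hcop : (Nat.card W).Coprime q) (hfix : ∀ w : W, (∀ a, φ a w = w) → w = 1) :
    ∃ a : Q, fixCard φ a ^ q ≤ Nat.card W := by
  haveI := Fintype.ofFinite Q
  by_contra h
  push Not at h
  have h1 := prod_fixCard_le hQ _ φ rfl hcop hfix
  rw [Nat.card_eq_fintype_card (α := Q), ← Finset.card_univ, ← Finset.prod_const] at h1
  exact absurd h1 (not_le.2 (Finset.prod_lt_prod_of_nonempty (fun _ _ => Nat.card_pos)
    (fun a _ => h a) Finset.univ_nonempty))

end Cfsg.Agent.PrimChar
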