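/-
Faithful quasi-primitive characters of metanilpotent `{p, q}`-groups of odd order (helper8).

* `restrict_irr` : the character stays irreducible on every normal subgroup containing `F(G)`
* `exists_class` : its degree divides the size of some conjugacy class
-/
import Cfsg.Agent.Lib.PrimChar.FixedSpace
import Cfsg.Agent.Lib.CharApp.Clifford
import Cfsg.Agent.Lib.CharApp.DegreeSets
import Cfsg.Agent.Lib.Codegree.Basic
import Cfsg.Agent.Lib.Cores.Fitting
import Cfsg.Agent.Lib.NilGroup.Basic
import Cfsg.Agent.S0887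

set_option autoImplicit false
set_option linter.style.haveILetI false

namespace Cfsg.Agent.PrimChar

open Cfsg Cfsg.Agent.Char Cfsg.Agent.CharApp Cfsg.Agent.CharApp.DegreeSets
open scoped commutatorElement

variable {G : Type*} [Group G] [Finite G]

/-- Every constituent on every normal subgroup is invariant. -/
def IsQP (G : Type*) [Group G] [Finite G] (χ : G → ℂ) : Prop :=
  ∀ (N : Subgroup G) [N.Normal] [Fintype N] (θ : N → ℂ), IsIrrCharacter N θ →
    classInner (fun n : N => χ n) θ ≠ 0 → inertia N θ = ⊤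

/-- An abelian normal subgroup is central. -/
theorem le_center {χ : G → ℂ} (hχ : IsIrrCharacter G χ) (hf : ∀ g, χ g = χ 1 → g = 1)
    (hQP : IsQP G χ) (A : Subgroup G) [hA : A.Normal] (hc : ∀ a b : A, a * b = b * a) :
    A ≤ Subgroup.center G := by
  classical
  haveI := Fintype.ofFinite G
  haveI := Fintype.ofFinite A
  obtain ⟨θ, hθ⟩ := exists_constituent (IsCharacter.restrict (IsIrrCharacter.isCharacter hχ) A)
    (by rw [OneMemClass.coe_one, DegreeSets.apply_one hχ]
        exact Nat.cast_ne_zero.2 (TwoClassChar.deg_pos hχ).ne')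
  have hI := hQP A (θ : A → ℂ) θ.2 hθ
  have hres := restrict_invariant A hχ θ.2 hθ fun x => (mem_inertia A).1 (hI ▸ Subgroup.mem_top x)
  obtain ⟨l, hl⟩ := exists_hom_of_degree_one (IsIrrCharacter.isCharacter θ.2)
    (apply_one_eq_one_of_comm hc θ)
  intro a ha
  rw [Subgroup.mem_center_iff]
  intro g
  let b : A := ⟨g * a * g⁻¹, hA.conj_mem a ha g⟩
  have h1 : (θ : A → ℂ) b = (θ : A → ℂ) ⟨a, ha⟩ :=
    (mem_inertia_iff A).1 (hI ▸ Subgroup.mem_top g) ⟨a, ha⟩
  have h2 : (θ : A → ℂ) (b * (⟨a, ha⟩ : A)⁻¹) = (θ : A → ℂ) 1 := by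
    rw [← hl, map_mul, congrFun hl b, h1, ← congrFun hl, ← map_mul, mul_inv_cancel]
  have h3 := hf (g * a * g⁻¹ * a⁻¹) (by
    have e1 := congrFun hres (b * (⟨a, ha⟩ : A)⁻¹)
    have e2 := congrFun hres 1
    simp only [Pi.smul_apply, h2] at e1
    simp only [Pi.smul_apply] at e2
    exact e1.trans e2.symm)
  exact mul_inv_eq_iff_eq_mul.1 (mul_inv_eq_one.1 h3)

/-- Restriction stays irreducible down a supersoluble quotient. -/
theorem restrict_irr {χ : G → ℂ} (hχ : IsIrrCharacter G χ) (hQP : IsQP G χ) (F : Subgroup G)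
    [F.Normal] (hnil : Group.IsNilpotent (G ⧸ F)) :
    ∀ (n : ℕ) (M : Subgroup G) [M.Normal], M.index = n → F ≤ M →
      IsIrrCharacter M (fun m : M => χ m) := by
  intro n
  induction n using Nat.strong_induction_on with
  | _ n ih =>
  intro M hM hn hFM
  classical
  haveI := Fintype.ofFinite G
  by_cases htop : M = ⊤
  · subst htop
    exact IsIrrCharacter.comp_surjective hχ (Subgroup.topEquiv (G := G)).toMonoidHom
      (Subgroup.topEquiv (G := G)).surjective
  haveI : Nontrivial (G ⧸ M) := by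
    rw [← Finite.one_lt_card_iff_nontrivial, ← Subgroup.index_eq_card]
    exact Subgroup.one_lt_index_of_ne_top htop
  haveI := hnil
  haveI hnM : Group.IsNilpotent (G ⧸ M) :=
    Group.nilpotent_of_surjective (QuotientGroup.map F M (MonoidHom.id G) hFM)
      (fun x => by
        obtain ⟨g, rfl⟩ := QuotientGroup.mk_surjective x
        exact ⟨(g : G ⧸ F), rfl⟩)
  haveI : Nontrivial (Subgroup.center (G ⧸ M)) :=
    (Subgroup.nontrivial_iff_ne_bot _).2 fun h =>
      Cfsg.Agent.Cores.inf_center_ne_bot (⊤ : Subgroup (G ⧸ M)) top_ne_bot (by rw [h, inf_bot_eq])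
  obtain ⟨r, hr, hrd⟩ := Nat.exists_prime_and_dvd
    (Finite.one_lt_card (α := Subgroup.center (G ⧸ M))).ne'
  haveI : Fact r.Prime := ⟨hr⟩
  obtain ⟨z, hz⟩ := exists_prime_orderOf_dvd_card' r hrd
  set Zr : Subgroup (G ⧸ M) := Subgroup.zpowers (z : G ⧸ M)
  haveI hZrn : Zr.Normal := ⟨fun x hx g => by
    have hxc : x ∈ Subgroup.center (G ⧸ M) := Subgroup.zpowers_le.2 z.2 hx
    rwa [Subgroup.mem_center_iff.1 hxc g, mul_inv_cancel_right]⟩
  set N : Subgroup G := Zr.comap (QuotientGroup.mk' M) with hN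
  haveI : N.Normal := hZrn.comap _
  have hMN : M ≤ N := fun x hx => by
    rw [hN, Subgroup.mem_comap, QuotientGroup.mk'_apply, (QuotientGroup.eq_one_iff x).2 hx]
    exact one_mem _
  have hrel : (M.subgroupOf N).index = r := by
    have h1 : M.relIndex N = Nat.card Zr := by
      have h2 : N.map (QuotientGroup.mk' M) = Zr :=
        Subgroup.map_comap_eq_self_of_surjective (QuotientGroup.mk'_surjective M) Zr
      rw [← h2, ← Subgroup.relIndex_ker, QuotientGroup.ker_mk']
    show M.relIndex N = r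
    rw [h1, Nat.card_zpowers, Subgroup.orderOf_coe, hz]
  have hlt : N.index < n := by
    have h1 := Subgroup.relIndex_mul_index hMN
    rw [show M.relIndex N = r from hrel, hn] at h1
    rw [← h1]
    exact lt_mul_left (Nat.pos_of_ne_zero Subgroup.index_ne_zero_of_finite) hr.one_lt
  have hθ := ih N.index hlt N rfl (hFM.trans hMN)
  haveI := Fintype.ofFinite M
  haveI := Fintype.ofFinite N
  set M' := M.subgroupOf N
  haveI := Fintype.ofFinite M'
  let eM : M' ≃* M := Subgroup.subgroupOfEquivOfLe hMN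
  obtain ⟨φ, hφ⟩ := exists_constituent (IsCharacter.restrict (IsIrrCharacter.isCharacter hχ) M)
    (by rw [OneMemClass.coe_one, DegreeSets.apply_one hχ]
        exact Nat.cast_ne_zero.2 (TwoClassChar.deg_pos hχ).ne')
  let φ' : M' → ℂ := fun x => (φ : M → ℂ) (eM x)
  have hφ' : IsIrrCharacter M' φ' := IsIrrCharacter.comp_equiv φ.2 eM
  have hinner : classInner (fun x : M' => χ ((x : N) : G)) φ' = classInner (fun m : M => χ m) (φ : M → ℂ) :=
    classInner_comp_equiv eM (fun m : M => χ m) (φ : M → ℂ)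
  have hI := hQP M (φ : M → ℂ) φ.2 hφ
  have hI' : inertia M' φ' = ⊤ := eq_top_iff.2 fun g _ => (mem_inertia_iff M').2 fun x => by
    have h1 := (mem_inertia_iff M).1 (hI ▸ Subgroup.mem_top (g : G)) (eM x)
    exact h1
  obtain ⟨e, he0, he, hdeg, hself⟩ := degree_over M' hθ hφ' (by rw [hinner]; exact hφ)
  have hb := multiplicity_sq_le_index M' hθ
  rw [hself, hI', Subgroup.index_top, Nat.cast_one, mul_one, hrel,
    show ((e : ℂ) ^ 2) = ((e ^ 2 : ℕ) : ℂ) by push_cast; rfl, Complex.natCast_re, Nat.cast_le] at hb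
  have hd := (Cfsg.Agent.S0887.result M' (fun n : N => χ n) hθ φ' hφ' (by rw [hinner]; exact hφ)
    (charDegree fun n : N => χ n) (charDegree φ') (DegreeSets.apply_one (G := N) hθ)
    (DegreeSets.apply_one (G := M') hφ')).2
  rw [hdeg, hI', Subgroup.index_top, mul_one, hrel,
    Nat.mul_div_cancel _ (TwoClassChar.deg_pos hφ')] at hd
  have he1 : e = 1 := by
    rcases (Nat.dvd_prime hr).1 hd with h | h
    · exact h
    · exfalso
      rw [h] at hb
      have := hr.two_le
      nlinarith
  have hres := restrict_invariant M hχ φ.2 hφ fun x => (mem_inertia M).1 (hI ▸ Subgroup.mem_top x)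
  rw [← hinner, he, he1, Nat.cast_one, one_smul] at hres
  rw [hres]
  exact φ.2

/-- `φ(1) ^ 2 ≤ |G : Z(G)|`. -/
theorem sq_degree_le_index_center (χ : IrrCharacter G) :
    charDegree (χ : G → ℂ) ^ 2 ≤ (Subgroup.center G).index := by
  classical
  haveI := Fintype.ofFinite G
  haveI := Fintype.ofFinite (Subgroup.center G)
  have hab : ∀ a b : Subgroup.center G, a * b = b * a := fun a b =>
    Subtype.ext (Subgroup.mem_center_iff.1 b.2 a)
  obtain ⟨θ, hθ⟩ := exists_constituent
    (IsCharacter.restrict (IsIrrCharacter.isCharacter χ.2) (Subgroup.center G))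
    (by rw [OneMemClass.coe_one, DegreeSets.apply_one χ.2]
        exact Nat.cast_ne_zero.2 (TwoClassChar.deg_pos χ.2).ne')
  obtain ⟨e, -, -, hdeg, hself⟩ := degree_over (Subgroup.center G) χ.2 θ.2 hθ
  have hI : inertia (Subgroup.center G) (θ : Subgroup.center G → ℂ) = ⊤ := by
    refine eq_top_iff.2 fun g _ => (mem_inertia_iff _).2 fun z => ?_
    exact congrArg _ (Subtype.ext (by
      show g * (z : G) * g⁻¹ = z
      rw [Subgroup.mem_center_iff.1 z.2 g, mul_inv_cancel_right]))
  have hθ1 : charDegree (θ : Subgroup.center G → ℂ) = 1 := by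
    have := apply_one_eq_one_of_comm hab θ
    rw [DegreeSets.apply_one θ.2] at this
    exact_mod_cast this
  rw [hI, Subgroup.index_top, hθ1, mul_one, mul_one] at hdeg
  have hb := multiplicity_sq_le_index (Subgroup.center G) χ.2
  rw [hself, hI, Subgroup.index_top, Nat.cast_one, mul_one,
    show ((e : ℂ) ^ 2) = ((e ^ 2 : ℕ) : ℂ) by push_cast; rfl, Complex.natCast_re, Nat.cast_le] at hb
  rwa [hdeg]

/-- Conjugation on `P / Z(P)` for a normal subgroup `P`. -/
theorem commutator_le_center {χ : G → ℂ} (hχ : IsIrrCharacter G χ) (hf : ∀ g, χ g = χ 1 → g = 1)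
    (hQP : IsQP G χ) (P : Subgroup G) [P.Normal] [Group.IsNilpotent P] :
    commutator P ≤ Subgroup.center P := by
  classical
  by_contra hne
  set A : Subgroup P := commutator P ⊓
    (Subgroup.center (P ⧸ Subgroup.center P)).comap (QuotientGroup.mk' (Subgroup.center P)) with hA
  have hmem : ∀ x : P, x ∈ (Subgroup.center (P ⧸ Subgroup.center P)).comap
      (QuotientGroup.mk' (Subgroup.center P)) ↔ ∀ y : P, ⁅y, x⁆ ∈ Subgroup.center P := by
    intro x
    rw [Subgroup.mem_comap, Subgroup.mem_center_iff]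
    constructor
    · intro h y
      rw [← QuotientGroup.eq_one_iff, ← QuotientGroup.mk'_apply, map_commutatorElement,
        commutatorElement_eq_one_iff_mul_comm]
      exact h _
    · intro h y'
      obtain ⟨y, rfl⟩ := QuotientGroup.mk'_surjective _ y'
      rw [← commutatorElement_eq_one_iff_mul_comm, ← map_commutatorElement, QuotientGroup.mk'_apply,
        QuotientGroup.eq_one_iff]
      exact h y
  haveI hAc : A.Characteristic := by
    rw [Subgroup.characteristic_iff_map_le]
    rintro φ _ ⟨x, ⟨hx1, hx2⟩, rfl⟩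
    refine ⟨?_, (hmem _).2 fun y => ?_⟩
    · exact (Subgroup.characteristic_iff_map_le.1 inferInstance φ) ⟨x, hx1, rfl⟩
    · obtain ⟨w, rfl⟩ := φ.surjective y
      have h := (hmem x).1 hx2 w
      have hc := (Subgroup.characteristic_iff_map_le.1
        (inferInstance : (Subgroup.center P).Characteristic) φ) ⟨_, h, rfl⟩
      rw [map_commutatorElement] at hc
      exact hc
  -- the derived subgroup centralises the second centre
  have hcomm : ∀ x ∈ A, ∀ w ∈ commutator P, x * w = w * x := by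
    intro x hx w hw
    have hd := (hmem x).1 hx.2
    let f : P →* Subgroup.center P :=
      { toFun := fun u => ⟨⁅u, x⁆, hd u⟩
        map_one' := Subtype.ext (commutatorElement_one_left x)
        map_mul' := fun u v => Subtype.ext (by
          show ⁅u * v, x⁆ = ⁅u, x⁆ * ⁅v, x⁆
          calc ⁅u * v, x⁆ = u * ⁅v, x⁆ * u⁻¹ * ⁅u, x⁆ := by
                simp only [commutatorElement_def]; group
            _ = ⁅v, x⁆ * ⁅u, x⁆ := by
                rw [Subgroup.mem_center_iff.1 (hd v) u, mul_inv_cancel_right]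
            _ = _ := (Subgroup.mem_center_iff.1 (hd v) _).symm) }
    have h1 : commutator P ≤ f.ker := by
      rw [commutator_def, Subgroup.commutator_le]
      intro u _ v _
      rw [MonoidHom.mem_ker, map_commutatorElement, commutatorElement_eq_one_iff_mul_comm]
      exact Subtype.ext ((Subgroup.mem_center_iff.1 (f u).2 (f v)).symm)
    have h2 : ⁅w, x⁆ = 1 := congrArg Subtype.val (MonoidHom.mem_ker.1 (h1 hw))
    exact (commutatorElement_eq_one_iff_mul_comm.1 h2).symm
  have hAle : A.map P.subtype ≤ Subgroup.center G := by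
    haveI := Cores.map_subtype_normal_of_characteristic P A
    refine le_center hχ hf hQP _ ?_
    rintro ⟨_, a, ha, rfl⟩ ⟨_, b, hb, rfl⟩
    exact Subtype.ext (congrArg P.subtype (hcomm a ha b hb.1))
  set D := (commutator P).map (QuotientGroup.mk' (Subgroup.center P))
  haveI : D.Normal := (inferInstance : (commutator P).Normal).map _
    (QuotientGroup.mk'_surjective _)
  have hD : D ≠ ⊥ := fun h => hne fun x hx => by
    have : QuotientGroup.mk' (Subgroup.center P) x ∈ D := ⟨x, hx, rfl⟩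
    rw [h, Subgroup.mem_bot, QuotientGroup.mk'_apply, QuotientGroup.eq_one_iff] at this
    exact this
  obtain ⟨⟨y, ⟨x, hx, hxy⟩, hyc⟩, hy1⟩ :=
    Subgroup.ne_bot_iff_exists_ne_one.1 (Cores.inf_center_ne_bot D hD)
  have hxA : x ∈ A := ⟨hx, by show QuotientGroup.mk' _ x ∈ Subgroup.center _; rw [hxy]; exact hyc⟩
  have hxc : x ∈ Subgroup.center P := Subgroup.mem_center_iff.2 fun w => Subtype.ext
    (Subgroup.mem_center_iff.1 (hAle ⟨x, hxA, rfl⟩) w)
  refine hy1 (Subtype.ext ?_)
  show y = 1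
  rw [← hxy, QuotientGroup.mk'_apply, QuotientGroup.eq_one_iff]
  exact hxc

variable {p q : ℕ} [hp : Fact p.Prime] [hq : Fact q.Prime]

/-- The bound at one prime. -/
theorem exists_prime_bound (hpq : p ≠ q) (hq3 : 3 ≤ q)
    (hpi : ∀ r : ℕ, r.Prime → r ∣ Nat.card G → r = p ∨ r = q)
    (hnil : Group.IsNilpotent (G ⧸ fittingSubgroup G)) {χ : G → ℂ} (hχ : IsIrrCharacter G χ)
    (hf : ∀ g, χ g = χ 1 → g = 1) (hQP : IsQP G χ) (Q : Sylow q G) :
    ∃ y ∈ (Q : Subgroup G), ∀ (g : G) (m : ℕ), g ^ m * y⁻¹ ∈ fittingSubgroup G →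
      (charDegree χ).factorization p ≤
        (Subgroup.centralizer ({g} : Set G)).index.factorization p := by
  classical
  haveI := Fintype.ofFinite G
  set F := fittingSubgroup G
  set P0 := pCore p G with hP0
  haveI hP0n : P0.Normal := Subgroup.sSup_normal _ fun _ h => h.1
  have hP0p : IsPGroup p P0 := Cores.isPGroup_pCore p G
  haveI : Group.IsNilpotent P0 := hP0p.isNilpotent
  set Z := Subgroup.center P0 with hZ
  have hcl : commutator P0 ≤ Z := commutator_le_center hχ hf hQP P0
  letI : CommGroup (P0 ⧸ Z) :=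
    { (inferInstance : Group (P0 ⧸ Z)) with
      mul_comm := fun a b => by
        obtain ⟨x, rfl⟩ := QuotientGroup.mk'_surjective Z a
        obtain ⟨y, rfl⟩ := QuotientGroup.mk'_surjective Z b
        rw [← commutatorElement_eq_one_iff_mul_comm, ← map_commutatorElement,
          QuotientGroup.mk'_apply, QuotientGroup.eq_one_iff]
        exact hcl (Subgroup.commutator_mem_commutator (Subgroup.mem_top _) (Subgroup.mem_top _)) }
  -- the action
  have hZfix : ∀ g : G, Z.map (MulAut.conjNormal g : MulAut P0).toMonoidHom = Z := fun g =>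
    Subgroup.characteristic_iff_map_eq.1 inferInstance _
  let ψ : G →* MulAut (P0 ⧸ Z) :=
    { toFun := fun g => QuotientGroup.congr Z Z (MulAut.conjNormal g : MulAut P0) (hZfix g)
      map_one' := MulEquiv.ext fun x => by
        obtain ⟨u, rfl⟩ := QuotientGroup.mk'_surjective Z x
        simp
      map_mul' := fun g h => MulEquiv.ext fun x => by
        obtain ⟨u, rfl⟩ := QuotientGroup.mk'_surjective Z x
        rw [MulAut.mul_apply]
        exact congrArg (QuotientGroup.mk' Z) (by rw [map_mul]; rfl) }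
  have hψ : ∀ (g : G) (u : P0), ψ g (u : P0 ⧸ Z) =
      (((MulAut.conjNormal g : MulAut P0) u : P0) : P0 ⧸ Z) := fun g u => rfl
  have hψF : ∀ f ∈ F, ψ f = 1 := by
    suffices F ≤ ψ.ker from fun f hf => MonoidHom.mem_ker.1 (this hf)
    rw [show F = ⨆ r : Nat.Primes, pCore (r : ℕ) G from Cores.fittingSubgroup_eq_iSup_pCore]
    refine iSup_le fun r x hx => ?_
    rw [MonoidHom.mem_ker]
    refine MulEquiv.ext fun w => ?_
    obtain ⟨u, rfl⟩ := QuotientGroup.mk_surjective w
    rw [hψ, MulAut.one_apply]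
    haveI : Fact (r : ℕ).Prime := ⟨r.2⟩
    by_cases hrp : (r : ℕ) = p
    · rw [hrp] at hx
      have e : (MulAut.conjNormal x : MulAut P0) u = (⟨x, hx⟩ : P0) * u * (⟨x, hx⟩ : P0)⁻¹ :=
        Subtype.ext (by simp)
      rw [e, QuotientGroup.mk_mul, QuotientGroup.mk_mul, QuotientGroup.mk_inv, mul_comm _ (u : P0 ⧸ Z),
        mul_inv_cancel_right]
    · have hc : x * (u : G) = u * x := (Cores.pCore_commute hrp hx u.2)
      refine congrArg _ (Subtype.ext ?_)
      rw [MulAut.conjNormal_apply, hc, mul_inv_cancel_right]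
  -- `Q` has no common fixed point
  have hQnorm : ∀ a ∈ (Q : Subgroup G), ∀ g : G, ∃ a' ∈ (Q : Subgroup G), g * a * g⁻¹ * a'⁻¹ ∈ F := by
    intro a ha g
    set Qb := (Q : Subgroup G).map (QuotientGroup.mk' F)
    haveI : Qb.Normal := by
      have hn := ((Group.isNilpotent_of_finite_tfae (G := G ⧸ F)).out 0 3 rfl rfl).mp hnil q hq
        (Q.mapSurjective (QuotientGroup.mk'_surjective F))
      exact hn
    obtain ⟨a', ha', he⟩ : QuotientGroup.mk' F (g * a * g⁻¹) ∈ Qb := by
      rw [map_mul, map_mul, map_inv]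
      exact (inferInstance : Qb.Normal).conj_mem _ ⟨a, ha, rfl⟩ _
    refine ⟨a', ha', ?_⟩
    rw [← QuotientGroup.eq_one_iff, ← QuotientGroup.mk'_apply, map_mul, map_inv, he, mul_inv_cancel]
  set φ : Q →* MulAut (P0 ⧸ Z) := ψ.comp (Q : Subgroup G).subtype
  have hGfix : ∀ w : P0 ⧸ Z, (∀ g, ψ g w = w) → w = 1 := by
    intro w hw
    obtain ⟨u, rfl⟩ := QuotientGroup.mk_surjective w
    have hZc : Z.map P0.subtype ≤ Subgroup.center G := by
      haveI := Cores.map_subtype_normal_of_characteristic P0 Z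
      refine le_center hχ hf hQP _ ?_
      rintro ⟨_, a, ha, rfl⟩ ⟨_, b, hb, rfl⟩
      exact Subtype.ext (congrArg P0.subtype (Subgroup.mem_center_iff.1 hb a))
    set A : Subgroup G := Subgroup.center G ⊔ Subgroup.zpowers (u : G) with hA
    haveI hAn : A.Normal := by
      refine ⟨fun x hx g => ?_⟩
      have hle : A ≤ A.comap (MulAut.conj g).toMonoidHom := by
        refine sup_le (fun c hc => ?_) (Subgroup.zpowers_le.2 ?_)
        · show g * c * g⁻¹ ∈ A
          rw [Subgroup.mem_center_iff.1 hc g, mul_inv_cancel_right]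
          exact Subgroup.mem_sup_left hc
        · show g * (u : G) * g⁻¹ ∈ A
          have h1 := (QuotientGroup.eq (s := Z)).1 ((hψ g u).symm.trans (hw g)).symm
          have h2 : (u : G)⁻¹ * (g * u * g⁻¹) ∈ Subgroup.center G := hZc ⟨_, h1, by simp⟩
          have : g * (u : G) * g⁻¹ = (u : G) * ((u : G)⁻¹ * (g * u * g⁻¹)) := by group
          rw [this]
          exact mul_mem (Subgroup.mem_sup_right (Subgroup.mem_zpowers _)) (Subgroup.mem_sup_left h2)
      exact hle hx
    have hAc : A ≤ Subgroup.centralizer (A : Set G) :=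
      sup_le (Subgroup.center_le_centralizer _) (Subgroup.le_centralizer_iff.1
        (sup_le (Subgroup.center_le_centralizer _)
          (Subgroup.le_centralizer (Subgroup.zpowers (u : G)))))
    have hu : (u : G) ∈ Subgroup.center G := le_center hχ hf hQP A
      (fun a b => Subtype.ext (Subgroup.mem_centralizer_iff.1 (hAc b.2) a a.2))
      (Subgroup.mem_sup_right (Subgroup.mem_zpowers _))
    exact (QuotientGroup.eq_one_iff u).2
      (Subgroup.mem_center_iff.2 fun v => Subtype.ext (Subgroup.mem_center_iff.1 hu v))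
  have hWp : IsPGroup p (P0 ⧸ Z) := hP0p.to_quotient Z
  have hfix : ∀ w : P0 ⧸ Z, (∀ a : Q, φ a w = w) → w = 1 := by
    intro w hw
    let U : Subgroup (P0 ⧸ Z) :=
      { carrier := {v | ∀ a : Q, φ a v = v}
        one_mem' := fun a => map_one _
        mul_mem' := fun {x y} hx hy a => by rw [map_mul, hx, hy]
        inv_mem' := fun {x} hx a => by rw [map_inv, hx] }
    by_contra hw1
    set P : Sylow p G := default
    have hUP : ∀ (g : G), ∀ v ∈ U, ψ g v ∈ U := by
      intro g v hv a
      obtain ⟨a', ha', hF⟩ := hQnorm a a.2 g⁻¹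
      rw [inv_inv] at hF
      have h1 : ψ (a : G) * ψ g = ψ g * ψ a' := by
        have h2 : ψ (g⁻¹ * a * g * a'⁻¹) = 1 := hψF _ hF
        rw [map_mul, map_mul, map_mul, map_inv, map_inv, mul_inv_eq_one, mul_assoc,
          inv_mul_eq_iff_eq_mul] at h2
        exact h2
      show ψ (a : G) (ψ g v) = ψ g v
      rw [← MulAut.mul_apply, h1, MulAut.mul_apply]
      exact congrArg (ψ g) (hv ⟨a', ha'⟩)
    let actU : (P : Subgroup G) →* MulAut U :=
      resAct (ψ.comp (P : Subgroup G).subtype) U fun a u hu => hUP a u hu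
    letI : MulAction (P : Subgroup G) U := MulAction.compHom U actU
    have hpU : p ∣ Nat.card U := ((hWp.to_subgroup U).card_eq_or_dvd).resolve_left fun h => hw1 (by
      have := (Subgroup.card_eq_one.1 h).le (show w ∈ U from hw)
      rwa [Subgroup.mem_bot] at this)
    obtain ⟨v, hv, hv1⟩ := P.2.exists_fixed_point_of_prime_dvd_card_of_fixed_point U hpU
      (a := (1 : U)) (fun a => map_one (actU a))
    refine hv1 (Subtype.ext ?_).symm
    refine hGfix (v : P0 ⧸ Z) fun g => ?_
    let S : Subgroup G :=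
      { carrier := {g | ψ g (v : P0 ⧸ Z) = v}
        one_mem' := by show ψ 1 _ = _; rw [map_one, MulAut.one_apply]
        mul_mem' := fun {x y} hx hy => by
          show ψ (x * y) _ = _
          rw [map_mul, MulAut.mul_apply, hy, hx]
        inv_mem' := fun {x} hx => by
          refine (ψ x).injective ?_
          show ψ x (ψ x⁻¹ _) = ψ x _
          rw [hx, map_inv, MulAut.apply_inv_self] }
    have hS : S.index = 1 := by
      by_contra hne
      obtain ⟨r, hr, hrd⟩ := Nat.exists_prime_and_dvd hne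
      rcases hpi r hr (hrd.trans S.index_dvd_card) with rfl | rfl
      · exact P.not_dvd_index (hrd.trans (Subgroup.index_dvd_of_le fun a ha =>
          congrArg Subtype.val (hv ⟨a, ha⟩)))
      · exact Q.not_dvd_index (hrd.trans (Subgroup.index_dvd_of_le fun a ha => v.2 ⟨a, ha⟩))
    exact (Subgroup.index_eq_one.1 hS).ge (Subgroup.mem_top g)
  have hcop : (Nat.card (P0 ⧸ Z)).Coprime q := by
    obtain ⟨k, hk⟩ := IsPGroup.iff_card.1 hWp
    rw [hk]
    exact ((Nat.coprime_primes hp.out hq.out).2 hpq).pow_left k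
  obtain ⟨y, hy⟩ := exists_small_fixed Q.2 φ hcop hfix
  refine ⟨y, y.2, fun g m hg => ?_⟩
  set C := Subgroup.centralizer ({g} : Set G)
  set T : Subgroup P0 := C.subgroupOf P0 with hT
  have hdvd : T.index ∣ C.index := by
    show C.relIndex P0 ∣ C.index
    have h1 := Subgroup.relIndex_mul_index (inf_le_left : C ⊓ P0 ≤ C)
    have h2 := Subgroup.relIndex_mul_index (inf_le_right : C ⊓ P0 ≤ P0)
    rw [Subgroup.inf_relIndex_left] at h1
    rw [Subgroup.inf_relIndex_right, ← h1] at h2
    obtain ⟨k, hk⟩ := Subgroup.relIndex_dvd_index_of_normal P0 C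
    refine ⟨k, Nat.eq_of_mul_eq_mul_left (Nat.pos_of_ne_zero
      (fun h => Subgroup.index_ne_zero_of_finite (H := P0.subgroupOf C) h)) ?_⟩
    show P0.relIndex C * C.index = P0.relIndex C * _
    rw [← h2, hk]
    ring
  -- the image of `T` is fixed by `y`
  have himg : Nat.card (T.map (QuotientGroup.mk' Z)) ≤ fixCard φ y := by
    refine Nat.card_le_card_of_injective (fun w => ⟨(w : P0 ⧸ Z), ?_⟩)
      (fun a b h => Subtype.ext (congrArg (fun z : {w // φ y w = w} => z.1) h))
    obtain ⟨_, t, ht, rfl⟩ := w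
    have hc : Commute ((t : P0) : G) g := (Subgroup.mem_centralizer_singleton_iff.1 ht)
    have h1 : ψ (g ^ m) = ψ (y : G) := by
      have := hψF _ hg
      rwa [map_mul, map_inv, mul_inv_eq_one] at this
    show ψ (y : G) (t : P0 ⧸ Z) = t
    rw [← h1, hψ]
    refine congrArg _ (Subtype.ext ?_)
    rw [MulAut.conjNormal_apply, ← (hc.pow_right m).eq, mul_inv_cancel_right]
  have hTle : Nat.card T ≤ Nat.card (T.map (QuotientGroup.mk' Z)) * Nat.card Z := by
    have h1 : Nat.card T ≤ Nat.card ((T ⊔ Z : Subgroup P0)) :=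
      Nat.le_of_dvd Nat.card_pos (Subgroup.card_dvd_of_le le_sup_left)
    refine h1.trans (le_of_eq ?_)
    have h2 := Cores.card_map_mul_ker (QuotientGroup.mk' Z) (T ⊔ Z)
      (by rw [QuotientGroup.ker_mk']; exact le_sup_right)
    rw [Subgroup.map_sup, QuotientGroup.map_mk'_self, sup_bot_eq, QuotientGroup.ker_mk'] at h2
    exact h2.symm
  set w := Nat.card (P0 ⧸ Z)
  set c := fixCard φ y
  have hwc : w ≤ T.index * c := by
    refine Nat.le_of_mul_le_mul_right ?_ (Nat.card_pos (α := Z))
    rw [← Subgroup.card_eq_card_quotient_mul_card_subgroup, ← Subgroup.index_mul_card T, mul_assoc]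
    exact Nat.mul_le_mul_left _ (hTle.trans (Nat.mul_le_mul_right _ himg))
  have hc2 : c * c ≤ w := by
    refine le_trans ?_ hy
    rw [← pow_two]
    exact Nat.pow_le_pow_right (fixCard_pos φ y) (by omega)
  have hwi : w ≤ T.index * T.index := by
    have h1 : c * c ≤ T.index * c := hc2.trans hwc
    exact hwc.trans (Nat.mul_le_mul_left _ (Nat.le_of_mul_le_mul_right h1 (fixCard_pos φ y)))
  -- the degree
  haveI := Fintype.ofFinite F
  have hθ := restrict_irr hχ hQP F hnil _ F rfl le_rfl
  set P1 := P0.subgroupOf F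
  haveI := Fintype.ofFinite P1
  let eP : P1 ≃* P0 := Subgroup.subgroupOfEquivOfLe (Cores.pCore_le_fittingSubgroup p)
  obtain ⟨ν, hν⟩ := exists_constituent (IsCharacter.restrict (IsIrrCharacter.isCharacter hθ) P1)
    (by simp only [OneMemClass.coe_one]; rw [DegreeSets.apply_one hχ]
        exact Nat.cast_ne_zero.2 (TwoClassChar.deg_pos hχ).ne')
  obtain ⟨hd1, hd2⟩ := Cfsg.Agent.S0887.result P1 (fun n : F => χ n) hθ (ν : P1 → ℂ) ν.2 hν
    (charDegree χ) (charDegree (ν : P1 → ℂ))
    (by simp only [OneMemClass.coe_one]; exact DegreeSets.apply_one hχ) (DegreeSets.apply_one ν.2)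
  have hindex : ¬ p ∣ P1.index := by
    intro hdiv
    set R : Sylow p F := default
    have hR : (R : Subgroup F).map F.subtype = P0 := by
      haveI : (R : Subgroup F).Normal :=
        ((Group.isNilpotent_of_finite_tfae (G := F)).out 0 3 rfl rfl).mp inferInstance p hp R
      rw [hP0, ← Cores.pCore_fittingSubgroup p, Cores.pCore_eq_sylow R]
    have hP1R : P1 = (R : Subgroup F) := by
      show P0.comap F.subtype = _
      rw [← hR, Subgroup.comap_map_eq_self_of_injective F.subtype_injective]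
    exact R.not_dvd_index (hP1R ▸ hdiv)
  have ha : (charDegree (ν : P1 → ℂ)) ^ 2 ≤ w := by
    have := sq_degree_le_index_center (⟨_, IsIrrCharacter.comp_equiv ν.2 eP.symm⟩ : IrrCharacter P0)
    rw [← hZ, Subgroup.index_eq_card] at this
    refine le_of_eq_of_le ?_ this
    simp [charDegree]
  have hv : (charDegree χ).factorization p = (charDegree (ν : P1 → ℂ)).factorization p := by
    have h1 : charDegree χ / charDegree (ν : P1 → ℂ) ≠ 0 := fun h =>
      (TwoClassChar.deg_pos hχ).ne' (by rw [← Nat.div_mul_cancel hd1, h, zero_mul])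
    conv_lhs => rw [← Nat.div_mul_cancel hd1]
    rw [Nat.factorization_mul h1 (TwoClassChar.deg_pos ν.2).ne', Finsupp.add_apply,
      Nat.factorization_eq_zero_of_not_dvd fun h => hindex (h.trans hd2), zero_add]
  rw [hv]
  obtain ⟨j, hj⟩ := IsPGroup.iff_card.1 hP0p
  obtain ⟨i, -, hi⟩ := (Nat.dvd_prime_pow hp.out).1 (hj ▸ T.index_dvd_card)
  have h3 : (Subgroup.centralizer ({g} : Set G)).index ≠ 0 := Subgroup.index_ne_zero_of_finite
  refine le_trans ?_ ((hp.out.pow_dvd_iff_le_factorization h3).1 (hi ▸ hdvd))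
  refine (Nat.pow_le_pow_iff_right hp.out.one_lt).1
    (le_trans (Nat.le_of_dvd (TwoClassChar.deg_pos ν.2) (Nat.ordProj_dvd _ p)) ?_)
  exact Nat.mul_self_le_mul_self_iff.1 (by rw [← hi, ← pow_two]; exact ha.trans hwi)

/-- The degree divides a class size. -/
theorem exists_class (hpq : p ≠ q)
    (hpdvd : p ≠ 2) (hqdvd : q ≠ 2)
    (hpi : ∀ r : ℕ, r.Prime → r ∣ Nat.card G → r = p ∨ r = q)
    (hnil : Group.IsNilpotent (G ⧸ fittingSubgroup G)) (χ : IrrCharacter G)
    (hf : ∀ g, (χ : G → ℂ) g = (χ : G → ℂ) 1 → g = 1) (hQP : IsQP G (χ : G → ℂ)) :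
    ∃ g : G, charDegree (χ : G → ℂ) ∣ (Subgroup.centralizer ({g} : Set G)).index := by
  set F := fittingSubgroup G
  set P : Sylow p G := default
  set Q : Sylow q G := default
  obtain ⟨y, hy, hy'⟩ := exists_prime_bound hpq
    (by have := hq.out.two_le; omega) hpi hnil χ.2 hf hQP Q
  obtain ⟨x, hx, hx'⟩ := exists_prime_bound hpq.symm
    (by have := hp.out.two_le; omega) (fun r hr hd => (hpi r hr hd).symm) hnil χ.2 hf hQP P
  obtain ⟨a, ha⟩ := P.2 ⟨x, hx⟩
  obtain ⟨b, hb⟩ := Q.2 ⟨y, hy⟩
  have ha' : x ^ p ^ a = 1 := congrArg Subtype.val ha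
  have hb' : y ^ q ^ b = 1 := congrArg Subtype.val hb
  have hco : (p ^ a).Coprime (q ^ b) := ((Nat.coprime_primes hp.out hq.out).2 hpq).pow _ _
  have hcomm : Commute (x : G ⧸ F) (y : G ⧸ F) := NilGroup.commute_of_coprime hnil
    (Nat.Coprime.coprime_dvd_left (orderOf_dvd_of_pow_eq_one (by rw [← QuotientGroup.mk_pow, ha', QuotientGroup.mk_one]))
      (hco.coprime_dvd_right (orderOf_dvd_of_pow_eq_one (by rw [← QuotientGroup.mk_pow, hb', QuotientGroup.mk_one]))))
  have hpick : ∀ (c d : ℕ), ∀ e f : G, e ^ c = 1 → f ^ d = 1 → c.Coprime d →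
      Commute (e : G ⧸ F) (f : G ⧸ F) → ∃ m : ℕ, (e * f) ^ m * f⁻¹ ∈ F := by
    intro c d e f he hfd hcd hc
    obtain ⟨m, hm1, hm2⟩ := Nat.chineseRemainder hcd 0 1
    refine ⟨m, ?_⟩
    rw [← QuotientGroup.eq_one_iff, QuotientGroup.mk_mul, QuotientGroup.mk_pow, QuotientGroup.mk_mul,
      hc.mul_pow, QuotientGroup.mk_inv, mul_inv_eq_one, ← QuotientGroup.mk_pow, ← QuotientGroup.mk_pow]
    have h1 : e ^ m = 1 :=
      orderOf_dvd_iff_pow_eq_one.1 ((orderOf_dvd_of_pow_eq_one he).trans (Nat.modEq_zero_iff_dvd.1 hm1))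
    have h2 : f ^ m = f ^ 1 := pow_eq_pow_iff_modEq.2 (hm2.of_dvd (orderOf_dvd_of_pow_eq_one hfd))
    rw [h1, h2, pow_one, QuotientGroup.mk_one, one_mul]
  obtain ⟨m, hm⟩ := hpick _ _ x y ha' hb' hco hcomm
  obtain ⟨m', hm'⟩ := hpick _ _ y x hb' ha' hco.symm hcomm.symm
  refine ⟨x * y, ?_⟩
  have hm'' : (x * y) ^ m' * x⁻¹ ∈ F := by
    rw [← QuotientGroup.eq_one_iff, QuotientGroup.mk_mul, QuotientGroup.mk_pow, QuotientGroup.mk_mul,
      hcomm.eq, ← QuotientGroup.mk_mul, ← QuotientGroup.mk_pow, ← QuotientGroup.mk_mul,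
      QuotientGroup.eq_one_iff]
    exact hm'
  have h1 := hy' (x * y) m hm
  have h2 := hx' (x * y) m' hm''
  rw [← Nat.factorization_le_iff_dvd (TwoClassChar.deg_pos χ.2).ne' Subgroup.index_ne_zero_of_finite]
  intro r
  by_cases hr : r.Prime ∧ r ∣ charDegree (χ : G → ℂ)
  · rcases hpi r hr.1 (hr.2.trans (Codegree.deg_dvd_card χ)) with rfl | rfl
    · exact h1
    · exact h2
  · by_cases hr' : r.Prime
    · rw [Nat.factorization_eq_zero_of_not_dvd fun h => hr ⟨hr', h⟩]; exact Nat.zero_le _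
    · rw [Nat.factorization_eq_zero_of_not_prime _ hr']; exact Nat.zero_le _

end Cfsg.Agent.PrimChar
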